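import Cfsg.Agent.H792.SpHeis_m3
import Cfsg.Agent.BabyM.HNB
import Cfsg.Agent.BabyM.Instance
import Cfsg.Agent.BM.KHAll
import Cfsg.Agent.S1701
import Cfsg.Agent.Prune
set_option linter.all false
prune_inst 0x7f00000000000000000000000000000000000000000000000000000000000000000000000000000000000000000000000000000000000000000000000000000000000000000000000000000000000000003fffffffffffffffffffffffffffbeffbdffffffff
open scoped Cfsg.Agent.FastGrp

/-!
# The Baby Monster: `FullP 5` from the subgroup `HN` (helper792)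
-/

set_option autoImplicit false

namespace Cfsg.Agent.H792.SpBFive

open Subgroup Cfsg Cfsg.Agent.H749 Cfsg.Spor
open Cfsg.Agent.BabyM.Inst Cfsg.Agent.BabyM.WordsInst Cfsg.Agent.BM.StageW Cfsg.Agent.MonsterX.WordSub
  Cfsg.Agent.MonsterX.WordRels Cfsg.Agent.BabyM.HNB Cfsg.Agent.BabyM.HNBWords

/-- `HN` is a subgroup of the Baby Monster -/
theorem exists_hom : ∃ f : Cfsg.Spor.HN →* Cfsg.Spor.BabyMonster, Function.Injective f := by
  have A := Cfsg.Agent.BabyM.Instance.all
  have O := Cfsg.Agent.BabyM.Instance.ok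
  obtain ⟨K, ⟨e⟩, -⟩ := exists_subgroup Cfsg.Spor.HN.edges Cfsg.Spor.HN.extra S1701.result.1 Cfsg.Agent.BabyM.HNB.gen (by
      rintro r (hr | hr)
      · exact cox_lift _ _ (fun a ha => absurd ha (by simp [coxNodes, Cfsg.Spor.HN.edges])) r hr
      · exact lift_extra hn_extra _ (rels A O) r hr) ⟨.x, fun h => j_ne A (by
    have h1 : wd xw = 1 := h
    rw [← x_sq A O, h1, one_mul])⟩
  refine ⟨(BM.KHAll.iso.symm.toMonoidHom.comp K.subtype).comp e.toMonoidHom, ?_⟩
  exact (BM.KHAll.iso.symm.injective.comp K.subtype_injective).comp e.injective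

/-- **the Baby Monster, `p = 5`** -/
theorem fullP_BabyMonster (h : FullP 5 Cfsg.Spor.HN) : FullP 5 Cfsg.Spor.BabyMonster := by
  have : Fact (Nat.Prime 5) := ⟨by norm_num⟩
  obtain ⟨f, hf⟩ := exists_hom
  have hB : Nat.card Cfsg.Spor.BabyMonster = 4154781481226426191177580544000000 := BM.KHAll.card_B
  have hfin : Finite Cfsg.Spor.BabyMonster := Nat.finite_of_card_ne_zero (by rw [hB]; norm_num)
  have hfin' : Finite Cfsg.Spor.HN := Finite.of_injective f hf
  refine H792.SpTool.fullP_of_hom f ?_ h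
  have h1 : Nat.card f.range = 273030912000000 := by
    rw [← S1701.result.2]
    exact (Nat.card_congr (MonoidHom.ofInjective hf).toEquiv).symm
  have h2 := Subgroup.card_mul_index f.range
  rw [h1, hB] at h2
  have h3 : f.range.index = 15217256723027853312 := by omega
  rw [h3]
  decide

/-- **the Baby Monster, `p = 5`** -/
theorem fullP_b_five_of (h5 : FullP 5 Cfsg.Spor.HN) {G : Type*} [Group G] (h : Cfsg.Spor.IsoB G) : FullP 5 G := by
  obtain ⟨e⟩ := h
  exact (fullP_BabyMonster h5).of_mulEquiv e.symm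

end Cfsg.Agent.H792.SpBFive
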